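import Cfsg.Agent.CohCert.Code

/-!
Group extensions with elementary abelian kernel: values of relations satisfy every identity of the Cayley graph.
-/

set_option autoImplicit false

namespace Cfsg.Agent.CohCert

open Cfsg Cfsg.Agent.Leech

abbrev Vec := Fin 11 → ZMod 2

/-- a bit -/
def bz (b : Bool) : ZMod 2 := if b then 1 else 0

theorem bz_xor (a b : Bool) : bz (a != b) = bz a + bz b := by cases a <;> cases b <;> rfl

theorem vec_self (a : Vec) : a + a = 0 := funext fun i => by
  show a i + a i = 0
  generalize a i = x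
  revert x
  decide

/-- data of an extension -/
structure Setup (E : Type*) [Group E] where
  /-- the map to the permutations -/
  π : E →* Equiv.Perm GolayPt
  /-- the kernel -/
  ν : Vec → E
  /-- the action by coefficients -/
  coef : ℕ → ℕ → ℕ → Bool
  ν_add : ∀ a b, ν (a + b) = ν a * ν b
  ν_inj : Function.Injective ν
  π_ν : ∀ a, π (ν a) = 1
  ker_le : ∀ e, π e = 1 → ∃ v, ν v = e
  conj : ∀ e v, e * ν v * e⁻¹ = ν fun o => ∑ j : Fin 11, bz (coef (code (π e)) o.val j.val) * v j

variable {E : Type*} [Group E] (S : Setup E)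

/-- the action of a coded permutation -/
def Setup.act (c : ℕ) (v : Vec) : Vec := fun o => ∑ j : Fin 11, bz (S.coef c o.val j.val) * v j

theorem Setup.conj' (e : E) (v : Vec) : e * S.ν v = S.ν (S.act (code (S.π e)) v) * e := by
  rw [← mul_inv_eq_iff_eq_mul, S.conj]
  rfl

theorem Setup.ν_zero : S.ν 0 = 1 := by
  have h := S.ν_add 0 0
  rw [add_zero] at h
  exact mul_eq_left.mp h.symm

open Classical in
/-- the coordinates of a kernel element -/
noncomputable def Setup.val (e : E) : Vec := if h : ∃ v, S.ν v = e then h.choose else 0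

theorem Setup.ν_val {e : E} (h : S.π e = 1) : S.ν (S.val e) = e := by
  rw [Setup.val, dif_pos (S.ker_le e h)]
  exact (S.ker_le e h).choose_spec

open Classical in
/-- a section -/
noncomputable def Setup.sec (c : ℕ) : E := if h : ∃ e, code (S.π e) = c then h.choose else 1

/-- product of a word -/
def prodX (x : ℕ → E) (w : List ℕ) : E := (w.map x).prod

/-- code of the product -/
def wordCode (tab : ℕ → ℕ) : ℕ → List ℕ → ℕ
  | c, [] => c
  | c, g :: w => wordCode tab (comp c (tab g)) w

/-- the edges of a path -/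
def edges (tab : ℕ → ℕ) : ℕ → List ℕ → List (ℕ × ℕ)
  | _, [] => []
  | c, g :: w => (c, g) :: edges tab (comp c (tab g)) w

section
variable {x : ℕ → E} {tab : ℕ → ℕ} (hx : ∀ g, code (S.π (x g)) = tab g)

/-- value of an edge -/
noncomputable def Setup.edgeVal (x : ℕ → E) (tab : ℕ → ℕ) (p : ℕ × ℕ) : Vec :=
  S.val (S.sec p.1 * x p.2 * (S.sec (comp p.1 (tab p.2)))⁻¹)

include hx

theorem wordCode_eq : ∀ (w : List ℕ) (e : E),
    wordCode tab (code (S.π e)) w = code (S.π (e * prodX x w))
  | [], e => by simp [wordCode, prodX]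
  | g :: w, e => by
    rw [wordCode, ← hx, ← code_mul, ← map_mul, wordCode_eq w]
    simp only [prodX, List.map_cons, List.prod_cons, mul_assoc]

theorem path_eq : ∀ (w : List ℕ) (c : ℕ), (∃ e, code (S.π e) = c) →
    S.sec c * prodX x w = S.ν ((edges tab c w).map (S.edgeVal x tab)).sum * S.sec (wordCode tab c w) := by
  intro w
  induction w with
  | nil => intro c _; simp [prodX, edges, wordCode, S.ν_zero]
  | cons g w ih =>
    intro c hc
    have hs : ∀ c', (∃ e, code (S.π e) = c') → code (S.π (S.sec c')) = c' := fun c' h => by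
      rw [Setup.sec, dif_pos h]; exact h.choose_spec
    have hc' : ∃ e, code (S.π e) = comp c (tab g) :=
      ⟨S.sec c * x g, by rw [map_mul, code_mul, hs c hc, hx]⟩
    have hk : S.π (S.sec c * x g * (S.sec (comp c (tab g)))⁻¹) = 1 := by
      rw [map_mul, map_inv, mul_inv_eq_one]
      exact code_injective (by rw [hs _ hc', map_mul, code_mul, hs c hc, hx])
    rw [prodX, List.map_cons, List.prod_cons, edges, wordCode, List.map_cons, List.sum_cons, S.ν_add,
      mul_assoc, ← ih _ hc', Setup.edgeVal, S.ν_val hk, ← mul_assoc]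
    rw [prodX]
    group

theorem rel_eq (rel : List ℕ × List ℕ) (r : Vec) (hr : prodX x rel.1 = S.ν r * prodX x rel.2) (e : E)
    (hend : wordCode tab (code (S.π e)) rel.1 = wordCode tab (code (S.π e)) rel.2) :
    S.act (code (S.π e)) r = ((edges tab (code (S.π e)) rel.1).map (S.edgeVal x tab)).sum +
      ((edges tab (code (S.π e)) rel.2).map (S.edgeVal x tab)).sum := by
  set c := code (S.π e)
  have hc : ∃ e', code (S.π e') = c := ⟨e, rfl⟩
  have hs : code (S.π (S.sec c)) = c := by rw [Setup.sec, dif_pos hc]; exact hc.choose_spec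
  have h1 := path_eq S hx rel.1 c hc
  have h2 := path_eq S hx rel.2 c hc
  rw [hr, ← mul_assoc, S.conj', hs, mul_assoc, h2, hend, ← mul_assoc, ← S.ν_add] at h1
  have h3 := S.ν_inj (mul_right_cancel h1)
  rw [← h3, add_assoc, vec_self, add_zero]

end

/-- all edges of a list of relation translates -/
def cellEdges (tab : ℕ → ℕ) (rels : ℕ → List ℕ × List ℕ) : List (List ℕ × ℕ) → List (ℕ × ℕ)
  | [] => []
  | (h, k) :: l => edges tab (wordCode tab oneC h) (rels k).1 ++ edges tab (wordCode tab oneC h) (rels k).2 ++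
      cellEdges tab rels l

/-- packed entry -/
def getV (V i : ℕ) : ℕ := (V >>> (120 * i)) &&& (2 ^ 120 - 1)

/-- the edges match the claimed indices -/
def matchE (V : ℕ) : List (ℕ × ℕ) → List ℕ → Bool
  | [], [] => true
  | (c, g) :: l, i :: is => Nat.beq (getV V i) c && decide (g < 16) && decide (i < 512) && matchE V l is
  | _, _ => false

/-- the parity vector of the edges -/
def parE : List (ℕ × ℕ) → List ℕ → ℕ
  | (_, g) :: l, i :: is => 2 ^ (16 * i + g) ^^^ parE l is
  | _, _ => 0

/-- sum over the set bits -/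
def bitSum {M : Type*} [AddCommGroup M] (B : ℕ) (F : ℕ → M) (m : ℕ) : M :=
  ∑ p ∈ Finset.range B, if m.testBit p then F p else 0

theorem bitSum_xor {M : Type*} [AddCommGroup M] (hM : ∀ a : M, a + a = 0) (B : ℕ) (F : ℕ → M) (m n : ℕ) :
    bitSum B F (m ^^^ n) = bitSum B F m + bitSum B F n := by
  rw [bitSum, bitSum, bitSum, ← Finset.sum_add_distrib]
  refine Finset.sum_congr rfl fun p _ => ?_
  rw [Nat.testBit_xor]
  cases m.testBit p <;> cases n.testBit p <;> simp [hM]

theorem bitSum_two_pow {M : Type*} [AddCommGroup M] {B p : ℕ} (hp : p < B) (F : ℕ → M) :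
    bitSum B F (2 ^ p) = F p := by
  rw [bitSum, Finset.sum_eq_single p]
  · simp
  · intro q _ hq; simp [Nat.testBit_two_pow_of_ne hq.symm]
  · intro h; simp [hp] at h

theorem bitSum_zero {M : Type*} [AddCommGroup M] (B : ℕ) (F : ℕ → M) : bitSum B F 0 = 0 := by
  simp [bitSum]

theorem sum_matched (V : ℕ) (φ : ℕ × ℕ → Vec) : ∀ (l : List (ℕ × ℕ)) (is : List ℕ), matchE V l is = true →
    (l.map φ).sum = bitSum 8192 (fun p => φ (getV V (p / 16), p % 16)) (parE l is)
  | [], [], _ => (bitSum_zero _ _).symm
  | [], _ :: _, h => by simp [matchE] at h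
  | _ :: _, [], h => by simp [matchE] at h
  | (c, g) :: l, i :: is, h => by
    simp only [matchE, Bool.and_eq_true, decide_eq_true_eq, Nat.beq_eq] at h
    rw [List.map_cons, List.sum_cons, parE, bitSum_xor vec_self, bitSum_two_pow (by omega),
      sum_matched V φ l is h.2]
    congr 2
    rw [show (16 * i + g) / 16 = i by omega, show (16 * i + g) % 16 = g by omega, h.1.1.1]

/-- check of the ends -/
def endsOk (tab : ℕ → ℕ) (rels : ℕ → List ℕ × List ℕ) : List (List ℕ × ℕ) → Bool
  | [] => true
  | (h, k) :: l => Nat.beq (wordCode tab (wordCode tab oneC h) (rels k).1)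
      (wordCode tab (wordCode tab oneC h) (rels k).2) && endsOk tab rels l

/-- an identity among relations -/
structure Ident where
  /-- the translates -/
  cells : List (List ℕ × ℕ)
  /-- the vertices -/
  verts : ℕ
  /-- vertex index of each edge -/
  at_ : List ℕ

/-- validity of an identity -/
def Ident.ok (tab : ℕ → ℕ) (rels : ℕ → List ℕ × List ℕ) (I : Ident) : Bool :=
  endsOk tab rels I.cells && matchE I.verts (cellEdges tab rels I.cells) I.at_ &&
    Nat.beq (parE (cellEdges tab rels I.cells) I.at_) 0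

/-- the values of the relations -/
noncomputable def Setup.relVal (x : ℕ → E) (rels : ℕ → List ℕ × List ℕ) (k : ℕ) : Vec :=
  S.val (prodX x (rels k).1 * (prodX x (rels k).2)⁻¹)

theorem Setup.relVal_spec {x : ℕ → E} {tab : ℕ → ℕ} (hx : ∀ g, code (S.π (x g)) = tab g)
    {rels : ℕ → List ℕ × List ℕ} {k : ℕ}
    (h : wordCode tab oneC (rels k).1 = wordCode tab oneC (rels k).2) :
    prodX x (rels k).1 = S.ν (S.relVal x rels k) * prodX x (rels k).2 := by
  rw [Setup.relVal, S.ν_val, inv_mul_cancel_right]
  rw [map_mul, map_inv, mul_inv_eq_one]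
  apply code_injective
  have e1 := wordCode_eq S hx (rels k).1 1
  have e2 := wordCode_eq S hx (rels k).2 1
  rw [map_one, code_one, one_mul] at e1 e2
  rw [← e1, ← e2, h]

theorem ident_sum {x : ℕ → E} {tab : ℕ → ℕ} (hx : ∀ g, code (S.π (x g)) = tab g)
    {rels : ℕ → List ℕ × List ℕ} (hrel : ∀ k, wordCode tab oneC (rels k).1 = wordCode tab oneC (rels k).2)
    {I : Ident} (hI : I.ok tab rels = true) :
    (I.cells.map fun q => S.act (wordCode tab oneC q.1) (S.relVal x rels q.2)).sum = 0 := by
  simp only [Ident.ok, Bool.and_eq_true, Nat.beq_eq] at hI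
  obtain ⟨⟨he, hm⟩, hp⟩ := hI
  have key : ∀ l : List (List ℕ × ℕ), endsOk tab rels l = true →
      (l.map fun q => S.act (wordCode tab oneC q.1) (S.relVal x rels q.2)).sum =
        ((cellEdges tab rels l).map (S.edgeVal x tab)).sum := by
    intro l
    induction l with
    | nil => intro _; rfl
    | cons q l ih =>
      obtain ⟨h, k⟩ := q
      intro hl
      simp only [endsOk, Bool.and_eq_true, Nat.beq_eq] at hl
      rw [List.map_cons, List.sum_cons, ih hl.2, cellEdges, List.map_append, List.sum_append,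
        List.map_append, List.sum_append]
      congr 1
      have hc := wordCode_eq S hx h 1
      rw [map_one, code_one, one_mul] at hc
      show S.act (wordCode tab oneC h) (S.relVal x rels k) = _
      rw [hc] at hl ⊢
      exact rel_eq S hx (rels k) _ (S.relVal_spec hx (hrel k)) _ hl.1
  rw [key _ he, sum_matched I.verts _ _ I.at_ hm, hp, bitSum_zero]

end Cfsg.Agent.CohCert
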