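import Cfsg.Agent.CohCert.Code

/-!
Generators, relations and normal forms for the certificates.
-/

set_option autoImplicit false

namespace Cfsg.Agent.CohCert

/-- codes of the generators -/
def tabList : List ℕ := [
  0x356d4991d02c4223a9285ddf21b1a0,
  0x8c07454af62b90c5cc2d119e4a9d20,
  0x8d6d49cae37982b62909138a481da0,
  0x411f49846eac0ac5a8d73a5b688a40,
  0x7c114998b6b906c5a8353ca2e68920,
  0x334349bdc3946cc5a9093dc8580aa0,
  0x885b4992e929aac5aa033b9f240ac0,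
  0x2d9b4519f0892ac5cd2314aee41c20,
  0x305b49c9c87c6a71287065ca44aec0,
  0x734349c8c97dec23aa035c4a4432a0,
  0x70994996e19456342acd819e4aa4e0,
  0x8d82aa49d02deac3cc691188f42da0,
  0xbd914116357107351db05c8cf4b020]

/-- code of a generator -/
def tab (g : ℕ) : ℕ := tabList.getD g oneC

/-- the relations -/
def relList : List (List ℕ × List ℕ) := [
  ([0, 0], []),
  ([1, 1], []),
  ([2, 2], []),
  ([3, 3], []),
  ([4, 4], []),
  ([5, 5], []),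
  ([6, 6], []),
  ([0, 1], [1, 2, 0]),
  ([0, 2], [2, 0]),
  ([0, 3], [3, 5, 0]),
  ([0, 4], [4, 5, 6, 0]),
  ([0, 5], [5, 0]),
  ([0, 6], [6, 0]),
  ([1, 2], [2, 1]),
  ([1, 3], [3, 4, 1]),
  ([1, 4], [4, 1]),
  ([1, 5], [5, 6, 1]),
  ([1, 6], [6, 1]),
  ([2, 3], [3, 5, 6, 2]),
  ([2, 4], [4, 6, 2]),
  ([2, 5], [5, 2]),
  ([2, 6], [6, 2]),
  ([3, 4], [4, 3]),
  ([3, 5], [5, 3]),
  ([3, 6], [6, 3]),
  ([4, 5], [5, 4]),
  ([4, 6], [6, 4]),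
  ([5, 6], [6, 5]),
  ([7, 7], []),
  ([8, 8], []),
  ([9, 9], []),
  ([0, 6], [9]),
  ([1, 4], [7]),
  ([2, 8], [9]),
  ([10, 10, 10], []),
  ([8, 9, 8], [9]),
  ([8, 10, 9], [10]),
  ([8, 9, 10], [10, 8]),
  ([7, 8, 10, 7], [8, 10]),
  ([7, 8, 7, 8, 7], [8, 7, 8]),
  ([7, 8, 7, 9, 7], [9, 7, 8]),
  ([11, 11, 11], []),
  ([4, 11, 4], [11]),
  ([5, 11, 6], [11]),
  ([11, 1, 11], [1]),
  ([2, 5, 11], [11, 0]),
  ([3, 11, 3], [11, 5]),
  ([12, 12, 12], []),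
  ([2, 12, 1], [12]),
  ([6, 12, 6], [12]),
  ([3, 12, 3], [12, 4]),
  ([12, 0, 12], [4, 0])]

/-- a relation -/
def rels (k : ℕ) : List ℕ × List ℕ := relList.getD k ([], [])

end Cfsg.Agent.CohCert
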