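import Cfsg.Agent.CohCert.Complement
import Cfsg.Agent.CohCert.Gens
import Cfsg.Agent.CohCert.CodeData
import Cfsg.Agent.CohCert.CocodeData

/-!
Kernel checks of the certificates.
-/

set_option autoImplicit false

namespace Cfsg.Agent.CohCert

open Cfsg Cfsg.Agent.Leech

/-- the rows of the code -/
def rowL : List ℕ := [13062145, 4845570, 9691140, 7221256, 14442512, 15806496, 11243584, 2019456, 4038912, 8077824,
  16155648, 10811392]

/-- the action on the code words vanishing at the extra point -/
def codeCoef (c o j : ℕ) : Bool := (rowL.getD (j + 1) 0).testBit (getC (invC c) (o + 1))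

/-- the action on the cocode -/
def cocodeCoef (c o j : ℕ) : Bool := (rowL.getD (o + 1) 0).testBit (getC c (j + 1))

theorem rowL_eq : ∀ i : Fin 12, rowL.getD i.val 0 = rowMask i := by decide +kernel

theorem idx_piv : ∀ i : Fin 12, idx (piv i) = i.val := by decide +kernel

theorem codeCoef_spec (σ : Equiv.Perm GolayPt) (o j : Fin 11) :
    bz (codeCoef (code σ) o.val j.val) = row j.succ (σ⁻¹ (piv o.succ)) := by
  rw [codeCoef, code_inv, ← Fin.val_succ, ← Fin.val_succ, rowL_eq, ← idx_piv o.succ, getC_code]
  rfl

theorem cocodeCoef_spec (σ : Equiv.Perm GolayPt) (o j : Fin 11) :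
    bz (cocodeCoef (code σ) o.val j.val) = row o.succ (σ (piv j.succ)) := by
  rw [cocodeCoef, ← Fin.val_succ, ← Fin.val_succ, rowL_eq, ← idx_piv j.succ, getC_code]
  rfl

theorem pcShape_ok : pcShape rels = true := by decide +kernel

theorem nf_nodup : ((List.range 128).map fun m => wordCode tab oneC (nfWord m)).Nodup := by decide +kernel

theorem rels_hold_lt : ∀ k < 52, wordCode tab oneC (rels k).1 = wordCode tab oneC (rels k).2 := by decide +kernel

theorem rels_hold (k : ℕ) : wordCode tab oneC (rels k).1 = wordCode tab oneC (rels k).2 := by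
  rcases lt_or_ge k 52 with h | h
  · exact rels_hold_lt k h
  · rw [rels, List.getD_eq_default _ _ (le_trans (by decide +kernel) h)]

theorem tab_perm : ∀ g < 13, ∀ i : Fin 24, getC (tab g) i.val < 24 ∧ getC (invC (tab g)) i.val < 24 ∧
    getC (invC (tab g)) (getC (tab g) i.val) = i.val ∧ getC (tab g) (getC (invC (tab g)) i.val) = i.val := by
  decide +kernel

/-- the permutation of a generator -/
def genP (g : Fin 13) : Equiv.Perm GolayPt where
  toFun p := pt ⟨getC (tab g.val) (idx p), (tab_perm g.val g.isLt (idxEquiv p)).1⟩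
  invFun p := pt ⟨getC (invC (tab g.val)) (idx p), (tab_perm g.val g.isLt (idxEquiv p)).2.1⟩
  left_inv p := idx_inj (by
    simp only [idx_pt]
    exact (tab_perm g.val g.isLt (idxEquiv p)).2.2.1)
  right_inv p := idx_inj (by
    simp only [idx_pt]
    exact (tab_perm g.val g.isLt (idxEquiv p)).2.2.2)

theorem code_genP : ∀ g : Fin 13, code (genP g) = tab g.val := by decide +kernel

theorem genP_rows : ∀ (g : Fin 13) (i : Fin 12), dec (row i ∘ ⇑(genP g)) = row i ∘ ⇑(genP g) := by decide +kernel

theorem genP_none : ∀ g : Fin 13, genP g none = none := by decide +kernel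

theorem genP_mem (g : Fin 13) : genP g ∈ Spor.M23 := ⟨mem_M24_of_rows (genP_rows g), genP_none g⟩

theorem exists_gen (g : ℕ) : ∃ σ ∈ Spor.M23, code σ = tab g := by
  rcases lt_or_ge g 13 with h | h
  · exact ⟨_, genP_mem ⟨g, h⟩, code_genP ⟨g, h⟩⟩
  · refine ⟨1, one_mem _, ?_⟩
    rw [code_one, tab, List.getD_eq_default _ _ (le_trans (by decide +kernel) h)]

theorem code_eqsOk : codeCert.eqsOk codeCoef tab rels = true := by decide +kernel

theorem code_resOk : codeCert.resOk codeCoef tab rels = true := by decide +kernel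

theorem cocode_eqsOk : cocodeCert.eqsOk cocodeCoef tab rels = true := by decide +kernel

theorem cocode_resOk : cocodeCert.resOk cocodeCoef tab rels = true := by decide +kernel

theorem exists_lifts {E : Type*} [Group E] (S : Setup E) (hrange : S.π.range = Spor.M23) :
    ∃ x : ℕ → E, ∀ g, code (S.π (x g)) = tab g := by
  choose σ hσ hc using exists_gen
  have : ∀ g, ∃ e, S.π e = σ g := fun g => by
    rw [← MonoidHom.mem_range, hrange]; exact hσ g
  choose x hx using this
  exact ⟨x, fun g => by rw [hx, hc]⟩

end Cfsg.Agent.CohCert
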