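import Cfsg.Agent.Leech.Code

/-!
Permutations of the 24 points packed as natural numbers.
-/

set_option autoImplicit false

namespace Cfsg.Agent.CohCert

open Cfsg Cfsg.Agent.Leech

/-- extract an image -/
def getC (c i : ℕ) : ℕ := (c >>> (5 * i)) &&& 31

/-- pack a table -/
def packN (f : ℕ → ℕ) (n : ℕ) : ℕ := Nat.rec 0 (fun i a => a + f i * 2 ^ (5 * i)) n

/-- composition of packed permutations -/
def comp (a b : ℕ) : ℕ := packN (fun i => getC a (getC b i)) 24

/-- inversion of a packed permutation -/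
def invC (c : ℕ) : ℕ := Nat.rec 0 (fun p a => a + p * 2 ^ (5 * getC c p)) 24

/-- the point with a given index -/
def pt (i : Fin 24) : GolayPt := idxEquiv.symm i

/-- the code of a permutation -/
def code (σ : Equiv.Perm GolayPt) : ℕ := ∑ i : Fin 24, idx (σ (pt i)) * 2 ^ (5 * (i : ℕ))

theorem idx_lt (p : GolayPt) : idx p < 24 := (idxEquiv p).isLt

theorem idx_pt (i : Fin 24) : idx (pt i) = i := congrArg Fin.val (idxEquiv.apply_symm_apply i)

theorem idx_inj {p q : GolayPt} (h : idx p = idx q) : p = q := idxEquiv.injective (Fin.ext h)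

theorem packN_eq (f : ℕ → ℕ) : ∀ n, packN f n = ∑ i ∈ Finset.range n, f i * 2 ^ (5 * i)
  | 0 => rfl
  | n + 1 => by rw [Finset.sum_range_succ, ← packN_eq f n]; rfl

theorem packN_lt {f : ℕ → ℕ} (hf : ∀ i, f i < 32) : ∀ n, packN f n < 2 ^ (5 * n)
  | 0 => Nat.one_pos
  | n + 1 => by
    have h := packN_lt hf n
    show packN f n + f n * 2 ^ (5 * n) < _
    have := hf n
    rw [show 5 * (n + 1) = 5 * n + 5 by ring, pow_add]
    nlinarith

theorem getC_packN {f : ℕ → ℕ} (hf : ∀ i, f i < 32) :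
    ∀ n i, i < n → getC (packN f n) i = f i
  | 0, i, h => absurd h (Nat.not_lt_zero i)
  | n + 1, i, h => by
    have hb := packN_lt hf n
    have e : packN f (n + 1) = packN f n + f n * 2 ^ (5 * n) := rfl
    have hget : ∀ x : ℕ, getC x i = x / 2 ^ (5 * i) % 32 := fun x => by
      rw [getC, Nat.shiftRight_eq_div_pow, show (31 : ℕ) = 2 ^ 5 - 1 from rfl, Nat.and_two_pow_sub_one_eq_mod]
    rcases Nat.lt_succ_iff_lt_or_eq.1 h with hi | rfl
    · rw [← getC_packN hf n i hi, hget, hget, e,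
        show 2 ^ (5 * n) = 2 ^ (5 * i) * 2 ^ (5 * (n - i)) by rw [← pow_add]; congr 1; omega,
        ← mul_assoc, mul_comm (f n) (2 ^ (5 * i)), mul_assoc, Nat.add_mul_div_left _ _ (Nat.two_pow_pos _),
        show 5 * (n - i) = 5 * (n - i - 1) + 5 by omega, pow_add, ← mul_assoc]
      simp [Nat.add_mod]
    · rw [hget, e, Nat.add_mul_div_right _ _ (Nat.two_pow_pos _), Nat.div_eq_of_lt hb, zero_add,
        Nat.mod_eq_of_lt (hf i)]

/-- images of a permutation as a function on naturals -/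
def imgF (σ : Equiv.Perm GolayPt) (i : ℕ) : ℕ := if h : i < 24 then idx (σ (pt ⟨i, h⟩)) else 0

theorem code_eq (σ : Equiv.Perm GolayPt) : code σ = packN (imgF σ) 24 := by
  rw [packN_eq, code, ← Fin.sum_univ_eq_sum_range]
  refine Finset.sum_congr rfl fun i _ => ?_
  rw [imgF, dif_pos i.isLt]

theorem imgF_lt (σ : Equiv.Perm GolayPt) (i : ℕ) : imgF σ i < 32 := by
  unfold imgF
  split_ifs
  · exact lt_trans (idx_lt _) (by norm_num)
  · norm_num

theorem getC_code (σ : Equiv.Perm GolayPt) (p : GolayPt) : getC (code σ) (idx p) = idx (σ p) := by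
  rw [code_eq, getC_packN (imgF_lt σ) 24 _ (idx_lt p), imgF, dif_pos (idx_lt p)]
  rw [show (⟨idx p, idx_lt p⟩ : Fin 24) = idxEquiv p from rfl, pt, Equiv.symm_apply_apply]

theorem code_mul (σ τ : Equiv.Perm GolayPt) : code (σ * τ) = comp (code σ) (code τ) := by
  rw [code, comp, packN_eq, ← Fin.sum_univ_eq_sum_range]
  refine Finset.sum_congr rfl fun i _ => ?_
  congr 1
  have h1 := getC_code τ (pt i)
  rw [idx_pt] at h1
  rw [h1, getC_code]
  rfl

theorem code_inv (σ : Equiv.Perm GolayPt) : invC (code σ) = code σ⁻¹ := by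
  have e : ∀ n, (Nat.rec 0 (fun p a => a + p * 2 ^ (5 * getC (code σ) p)) n : ℕ) =
      ∑ p ∈ Finset.range n, p * 2 ^ (5 * getC (code σ) p) := by
    intro n
    induction n with
    | zero => rfl
    | succ n ih =>
      rw [Finset.sum_range_succ, ← ih]
  rw [invC, e, ← Fin.sum_univ_eq_sum_range (fun p => p * 2 ^ (5 * getC (code σ) p))]
  conv_rhs => rw [code]
  refine Fintype.sum_equiv ((idxEquiv.symm.trans σ).trans idxEquiv) _ _ fun i => ?_
  have h := getC_code σ (pt i)
  rw [idx_pt] at h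
  show (i : ℕ) * 2 ^ (5 * getC (code σ) i) = idx (σ⁻¹ (pt (idxEquiv (σ (pt i))))) * 2 ^ (5 * idx (σ (pt i)))
  rw [h]
  congr 1
  rw [show pt (idxEquiv (σ (pt i))) = σ (pt i) from idxEquiv.symm_apply_apply _,
    show σ⁻¹ (σ (pt i)) = pt i from σ.symm_apply_apply _, idx_pt]

theorem code_injective : Function.Injective code := by
  intro σ τ h
  refine Equiv.ext fun p => idx_inj ?_
  rw [← getC_code, ← getC_code, h]

/-- the code of the identity -/
def oneC : ℕ := packN id 24

theorem code_one : code 1 = oneC := by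
  rw [code, oneC, packN_eq, ← Fin.sum_univ_eq_sum_range]
  exact Finset.sum_congr rfl fun i _ => by rw [Equiv.Perm.one_apply, idx_pt]; rfl

end Cfsg.Agent.CohCert
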