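import Cfsg.Agent.CohCert.Modules

/-!
Two non-split extensions of `M₂₃` by the cocode are isomorphic.
-/

set_option autoImplicit false

namespace Cfsg.Agent.CohCert

open Cfsg Cfsg.Agent.Leech

theorem iso_of_setups {E E' : Type*} [Group E] [Finite E] [Group E'] [Finite E'] (S : Setup E) (S' : Setup E')
    (hc : S'.coef = S.coef) (hR : S.π.range = Spor.M23) (hR' : S'.π.range = Spor.M23)
    {x : ℕ → E} {x' : ℕ → E'} (hx : ∀ g, code (S.π (x g)) = tab g) (hx' : ∀ g, code (S'.π (x' g)) = tab g)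
    (c : ℕ → Vec) (hr : ∀ k < 28, prodX x (rels k).1 = S.ν (c k) * prodX x (rels k).2)
    (hr' : ∀ k < 28, prodX x' (rels k).1 = S'.ν (c k) * prodX x' (rels k).2) : Nonempty (E ≃* E') := by
  classical
  let P : Subgroup (E × E') :=
    { carrier := {p | S.π p.1 = S'.π p.2}
      one_mem' := by simp
      mul_mem' := fun {a b} (ha : S.π a.1 = S'.π a.2) (hb : S.π b.1 = S'.π b.2) =>
        show S.π (a.1 * b.1) = S'.π (a.2 * b.2) by rw [map_mul, map_mul, ha, hb]
      inv_mem' := fun {a} (ha : S.π a.1 = S'.π a.2) =>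
        show S.π a.1⁻¹ = S'.π a.2⁻¹ by rw [map_inv, map_inv, ha] }
  let δ : Multiplicative Vec →* P :=
    { toFun := fun v => ⟨(S.ν v.toAdd, S'.ν v.toAdd), show S.π _ = S'.π _ by rw [S.π_ν, S'.π_ν]⟩
      map_one' := Subtype.ext (Prod.ext S.ν_zero S'.ν_zero)
      map_mul' := fun a b => Subtype.ext (Prod.ext (S.ν_add _ _) (S'.ν_add _ _)) }
  have hnorm : δ.range.Normal := ⟨by
    rintro _ ⟨v, rfl⟩ g
    refine ⟨Multiplicative.ofAdd (S.act (code (S.π g.1.1)) v.toAdd), Subtype.ext (Prod.ext ?_ ?_)⟩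
    · exact (S.conj g.1.1 v.toAdd).symm
    · show S'.ν (S.act (code (S.π g.1.1)) v.toAdd) = g.1.2 * S'.ν v.toAdd * g.1.2⁻¹
      rw [S'.conj, g.2]
      simp only [Setup.act, hc]
      rfl⟩
  let πD : P ⧸ δ.range →* Equiv.Perm GolayPt := QuotientGroup.lift δ.range
    (S.π.comp ((MonoidHom.fst E E').comp P.subtype)) (by
      rintro _ ⟨v, rfl⟩
      exact S.π_ν v.toAdd)
  let inl : Vec → P := fun v => ⟨(S.ν v, 1), show S.π _ = S'.π _ by rw [S.π_ν, map_one]⟩
  let SD : Setup (P ⧸ δ.range) :=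
    { π := πD
      ν := fun v => QuotientGroup.mk (inl v)
      coef := S.coef
      ν_add := fun a b => congrArg QuotientGroup.mk (Subtype.ext (Prod.ext (S.ν_add a b) (one_mul _).symm))
      ν_inj := fun a b h => by
        obtain ⟨w, hw⟩ := QuotientGroup.eq.1 h
        have h2 : S'.ν w.toAdd = 1⁻¹ * 1 := congrArg (fun p : P => p.1.2) hw
        rw [inv_one, one_mul, ← S'.ν_zero] at h2
        have h1 : S.ν w.toAdd = (S.ν a)⁻¹ * S.ν b := congrArg (fun p : P => p.1.1) hw
        rw [S'.ν_inj h2, S.ν_zero, eq_comm, inv_mul_eq_one] at h1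
        exact S.ν_inj h1
      π_ν := fun a => S.π_ν a
      ker_le := fun e he => by
        obtain ⟨⟨⟨a, b⟩, hab⟩, rfl⟩ := QuotientGroup.mk_surjective e
        have ha : S.π a = 1 := he
        obtain ⟨u, rfl⟩ := S.ker_le a ha
        obtain ⟨w, rfl⟩ := S'.ker_le b (hab.symm.trans ha)
        refine ⟨u + w, QuotientGroup.eq.2 ⟨Multiplicative.ofAdd w, Subtype.ext (Prod.ext ?_ ?_)⟩⟩
        · show S.ν w = (S.ν (u + w))⁻¹ * S.ν u
          rw [eq_inv_mul_iff_mul_eq, ← S.ν_add, add_assoc, vec_self, add_zero]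
        · show S'.ν w = 1⁻¹ * S'.ν w
          rw [inv_one, one_mul]
      conj := fun e v => by
        obtain ⟨⟨⟨a, b⟩, hab⟩, rfl⟩ := QuotientGroup.mk_surjective e
        refine congrArg QuotientGroup.mk (Subtype.ext (Prod.ext (S.conj a v) ?_))
        show b * 1 * b⁻¹ = 1
        rw [mul_one, mul_inv_cancel] }
  let P' : ℕ → P := fun g => ⟨(x g, x' g), code_injective ((hx g).trans (hx' g).symm)⟩
  let xD : ℕ → P ⧸ δ.range := fun g => QuotientGroup.mk (P' g)
  have hprod : ∀ w, prodX xD w = QuotientGroup.mk (prodX P' w) := fun w => by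
    induction w with
    | nil => rfl
    | cons g w ih =>
      simp only [prodX, List.map_cons, List.prod_cons] at ih ⊢
      rw [ih]; rfl
  have hfst : ∀ w, (prodX P' w).1 = (prodX x w, prodX x' w) := fun w => by
    induction w with
    | nil => rfl
    | cons g w ih =>
      simp only [prodX, List.map_cons, List.prod_cons, Subgroup.coe_mul] at ih ⊢
      rw [ih]; rfl
  have hrD : ∀ k < 28, prodX xD (rels k).1 = prodX xD (rels k).2 := fun k hk => by
    rw [hprod, hprod]
    have e : prodX P' (rels k).1 = δ (Multiplicative.ofAdd (c k)) * prodX P' (rels k).2 := by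
      apply Subtype.ext
      rw [Subgroup.coe_mul, hfst, hfst, hr k hk, hr' k hk]
      rfl
    rw [e, QuotientGroup.mk_mul, (QuotientGroup.eq_one_iff (δ (Multiplicative.ofAdd (c k)))).2
      (MonoidHom.mem_range.2 ⟨_, rfl⟩), one_mul]
  have hRD : SD.π.range = Spor.M23 := by
    ext σ
    constructor
    · rintro ⟨e, rfl⟩
      obtain ⟨p, rfl⟩ := QuotientGroup.mk_surjective e
      show S.π p.1.1 ∈ _
      rw [← hR]; exact ⟨_, rfl⟩
    · intro h
      have h' := h
      rw [← hR, MonoidHom.mem_range] at h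
      rw [← hR', MonoidHom.mem_range] at h'
      obtain ⟨a, ha⟩ := h
      obtain ⟨b, hb⟩ := h'
      exact ⟨QuotientGroup.mk ⟨(a, b), ha.trans hb.symm⟩, ha⟩
  obtain ⟨H, hH⟩ := complement_of_zero SD hRD (x := xD) hx hrD
  let G : Subgroup P := H.comap (QuotientGroup.mk' δ.range)
  let f : G →* E := ((MonoidHom.fst E E').comp P.subtype).comp G.subtype
  let f' : G →* E' := ((MonoidHom.snd E E').comp P.subtype).comp G.subtype
  have key : ∀ p : P, p ∈ G → (p.1.1 = 1 ∨ p.1.2 = 1) → p = 1 := by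
    intro p hp h1
    have hker : QuotientGroup.mk' δ.range p ∈ SD.π.ker := by
      show S.π p.1.1 = 1
      rcases h1 with h | h
      · rw [h, map_one]
      · rw [show S.π p.1.1 = S'.π p.1.2 from p.2, h, map_one]
    have : QuotientGroup.mk' δ.range p ∈ SD.π.ker ⊓ H := ⟨hker, hp⟩
    rw [hH.disjoint.eq_bot, Subgroup.mem_bot] at this
    obtain ⟨w, hw⟩ := (QuotientGroup.eq_one_iff p).1 this
    rw [← hw] at h1 ⊢
    have : w.toAdd = 0 := by
      rcases h1 with h | h
      · exact S.ν_inj (h.trans S.ν_zero.symm)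
      · exact S'.ν_inj (h.trans S'.ν_zero.symm)
    rw [show w = 1 from Multiplicative.toAdd.injective this, map_one]
  have hf : Function.Injective f := (injective_iff_map_eq_one f).2 fun g hg => Subtype.ext (key g.1 g.2 (Or.inl hg))
  have hf' : Function.Injective f' := (injective_iff_map_eq_one f').2 fun g hg => Subtype.ext (key g.1 g.2 (Or.inr hg))
  have hlift : ∀ p : P, ∃ v : Vec, ∃ g ∈ G, p = inl v * g := by
    intro p
    obtain ⟨⟨⟨k, hk⟩, h⟩, hkh⟩ := hH.surjective (QuotientGroup.mk p)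
    obtain ⟨v, hv⟩ := SD.ker_le k hk
    refine ⟨v, (inl v)⁻¹ * p, ?_, (mul_inv_cancel_left _ _).symm⟩
    show (QuotientGroup.mk' δ.range) ((inl v)⁻¹ * p) ∈ H
    rw [map_mul, map_inv]
    show (SD.ν v)⁻¹ * QuotientGroup.mk p ∈ H
    rw [hv, ← hkh]
    simpa using h.2
  have hs : Function.Surjective f := fun a => by
    obtain ⟨b, hb⟩ : ∃ b, S'.π b = S.π a := by
      rw [← MonoidHom.mem_range, hR', ← hR]; exact ⟨a, rfl⟩
    obtain ⟨v, g, hg, e⟩ := hlift ⟨(a, b), hb.symm⟩
    obtain ⟨⟨⟨k, hk⟩, h⟩, hkh⟩ := hH.surjective (QuotientGroup.mk (δ (Multiplicative.ofAdd v)))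
    refine ⟨⟨δ (Multiplicative.ofAdd v) * g, G.mul_mem ?_ hg⟩, ?_⟩
    · show (QuotientGroup.mk' δ.range) _ ∈ H
      rw [QuotientGroup.mk'_apply, (QuotientGroup.eq_one_iff (δ (Multiplicative.ofAdd v))).2
        (MonoidHom.mem_range.2 ⟨_, rfl⟩)]
      exact H.one_mem
    · show S.ν v * g.1.1 = a
      exact (congrArg (fun p : P => p.1.1) e).symm
  have hs' : Function.Surjective f' := fun b => by
    obtain ⟨a, ha⟩ : ∃ a, S.π a = S'.π b := by
      rw [← MonoidHom.mem_range, hR, ← hR']; exact ⟨b, rfl⟩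
    obtain ⟨v, g, hg, e⟩ := hlift ⟨(a, b), ha⟩
    refine ⟨⟨g, hg⟩, ?_⟩
    have h2 : b = 1 * g.1.2 := congrArg (fun p : P => p.1.2) e
    rw [one_mul] at h2
    exact h2.symm
  exact ⟨(MulEquiv.ofBijective f ⟨hf, hs⟩).symm.trans (MulEquiv.ofBijective f' ⟨hf', hs'⟩)⟩

theorem iso_of_nonsplit {E E' : Type*} [Group E] [Finite E] [Group E'] [Finite E'] (S : Setup E) (S' : Setup E')
    (hc : S.coef = cocodeCoef) (hc' : S'.coef = cocodeCoef) (hR : S.π.range = Spor.M23) (hR' : S'.π.range = Spor.M23)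
    (hns : ¬ ∃ H, Subgroup.IsComplement' S.π.ker H) (hns' : ¬ ∃ H, Subgroup.IsComplement' S'.π.ker H) :
    Nonempty (E ≃* E') := by
  obtain ⟨x₀, hx₀⟩ := exists_lifts S hR
  obtain ⟨x₁, hx₁⟩ := exists_lifts S' hR'
  obtain ⟨x, β, hx, hr⟩ := correct S hx₀ rels rels_hold cocodeCert (hc ▸ cocode_eqsOk) (hc ▸ cocode_resOk)
  obtain ⟨x', β', hx', hr'⟩ := correct S' hx₁ rels rels_hold cocodeCert (hc' ▸ cocode_eqsOk) (hc' ▸ cocode_resOk)
  have h01 : ∀ b : ZMod 2, b = 0 ∨ b = 1 := by decide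
  rcases h01 β with rfl | rfl
  · exact absurd (complement_of_zero S hR hx fun k hk => by
      rw [hr k hk, show (fun o : Fin 11 => bz (cocodeCert.c0.testBit (11 * k + o.val)) * (0 : ZMod 2)) = 0 from
        funext fun o => mul_zero _, S.ν_zero, one_mul]) hns
  rcases h01 β' with rfl | rfl
  · exact absurd (complement_of_zero S' hR' hx' fun k hk => by
      rw [hr' k hk, show (fun o : Fin 11 => bz (cocodeCert.c0.testBit (11 * k + o.val)) * (0 : ZMod 2)) = 0 from
        funext fun o => mul_zero _, S'.ν_zero, one_mul]) hns'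
  exact iso_of_setups S S' (hc'.trans hc.symm) hR hR' hx hx' _ hr hr'

theorem complement_code {E : Type*} [Group E] [Finite E] (S : Setup E) (hc : S.coef = codeCoef)
    (hR : S.π.range = Spor.M23) : ∃ H, Subgroup.IsComplement' S.π.ker H := by
  obtain ⟨x₀, hx₀⟩ := exists_lifts S hR
  obtain ⟨x, β, hx, hr⟩ := correct S hx₀ rels rels_hold codeCert (hc ▸ code_eqsOk) (hc ▸ code_resOk)
  refine complement_of_zero S hR hx fun k hk => ?_
  rw [hr k hk, show (fun o : Fin 11 => bz (codeCert.c0.testBit (11 * k + o.val)) * β) = 0 from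
    funext fun o => by simp [codeCert, bz], S.ν_zero, one_mul]

end Cfsg.Agent.CohCert
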