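import Cfsg.Agent.CohCert.Lift
import Cfsg.Agent.Core.Gaschutz
import Cfsg.Agent.Compute.Mathieu

/-!
Lifts satisfying the relations of a Sylow 2-subgroup of `M₂₃` give a complement.
-/

set_option autoImplicit false

namespace Cfsg.Agent.CohCert

open Cfsg Cfsg.Agent.Leech

variable {E : Type*} [Group E] [Finite E]

/-- the shape of the relations of a polycyclic presentation -/
def pcShape (rels : ℕ → List ℕ × List ℕ) : Bool :=
  (List.range 7).all fun i => (List.range 7).all fun j => decide (j < i) ||
    (List.range 28).any fun k => ((rels k).1 == [i, j]) &&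
      (if i = j then (rels k).2.all fun q => decide (i < q ∧ q < 7)
        else (rels k).2.getLast? == some i && ((rels k).2.dropLast.all fun q => decide (i < q ∧ q < 7)))

/-- the subgroup generated by the generators from `i` on -/
def tailGrp (x : ℕ → E) (i : ℕ) : Subgroup E := Subgroup.closure (x '' {j | i ≤ j ∧ j < 7})

theorem closure_insert_card (H : Subgroup E) (x : E) (hc : ∀ h ∈ H, x * h * x⁻¹ ∈ H) (hs : x * x ∈ H) :
    Nat.card (Subgroup.closure (insert x (H : Set E)) : Subgroup E) ≤ 2 * Nat.card H := by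
  classical
  have hc' : ∀ h ∈ H, x⁻¹ * h * x ∈ H := by
    intro h hh
    have e : x⁻¹ * h * x = (x * x)⁻¹ * (x * h * x⁻¹) * (x * x) := by group
    rw [e]
    exact H.mul_mem (H.mul_mem (H.inv_mem hs) (hc h hh)) hs
  let K : Subgroup E :=
    { carrier := {g | g ∈ H ∨ g * x⁻¹ ∈ H}
      one_mem' := Or.inl H.one_mem
      mul_mem' := by
        rintro a b (ha | ha) (hb | hb)
        · exact Or.inl (H.mul_mem ha hb)
        · exact Or.inr (by rw [mul_assoc]; exact H.mul_mem ha hb)
        · refine Or.inr ?_
          have e : a * b * x⁻¹ = a * x⁻¹ * (x * b * x⁻¹) := by group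
          rw [e]; exact H.mul_mem ha (hc b hb)
        · refine Or.inl ?_
          have e : a * b = a * x⁻¹ * (x * (b * x⁻¹) * x⁻¹) * (x * x) := by group
          rw [e]; exact H.mul_mem (H.mul_mem ha (hc _ hb)) hs
      inv_mem' := by
        rintro a (ha | ha)
        · exact Or.inl (H.inv_mem ha)
        · refine Or.inr ?_
          have e : a⁻¹ * x⁻¹ = x⁻¹ * (a * x⁻¹)⁻¹ * x * (x * x)⁻¹ := by group
          rw [e]; exact H.mul_mem (hc' _ (H.inv_mem ha)) (H.inv_mem hs) }
  have hle : Subgroup.closure (insert x (H : Set E)) ≤ K := (Subgroup.closure_le K).2 (by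
    intro y hy
    rcases Set.mem_insert_iff.1 hy with rfl | hy
    · exact Or.inr (by rw [mul_inv_cancel]; exact H.one_mem)
    · exact Or.inl hy)
  refine (Subgroup.card_le_of_le hle).trans ?_
  let f : K → Bool × H := fun g =>
    if h : (g : E) ∈ H then (true, ⟨g, h⟩) else (false, ⟨g * x⁻¹, g.2.resolve_left h⟩)
  have hf : Function.Injective f := by
    intro a b hab
    simp only [f] at hab
    split_ifs at hab with h1 h2 h2
    · exact Subtype.ext (congrArg (fun p : Bool × H => (p.2 : E)) hab)
    · exact absurd (congrArg Prod.fst hab) Bool.noConfusion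
    · exact absurd (congrArg Prod.fst hab) Bool.noConfusion
    · exact Subtype.ext (mul_right_cancel (congrArg (fun p : Bool × H => (p.2 : E)) hab))
  calc Nat.card K ≤ Nat.card (Bool × H) := Nat.card_le_card_of_injective f hf
    _ = 2 * Nat.card H := by simp [Nat.card_prod]

omit [Finite E] in
theorem prodX_mem {x : ℕ → E} {i : ℕ} : ∀ w : List ℕ, (∀ q ∈ w, i ≤ q ∧ q < 7) → prodX x w ∈ tailGrp x i
  | [], _ => Subgroup.one_mem _
  | q :: w, h => by
    rw [prodX, List.map_cons, List.prod_cons]
    exact Subgroup.mul_mem _ (Subgroup.subset_closure ⟨q, h q List.mem_cons_self, rfl⟩)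
      (prodX_mem w fun p hp => h p (List.mem_cons_of_mem _ hp))

theorem card_tailGrp {x : ℕ → E} {rels : ℕ → List ℕ × List ℕ} (hs : pcShape rels = true)
    (hr : ∀ k < 28, prodX x (rels k).1 = prodX x (rels k).2) :
    ∀ d ≤ 7, Nat.card (tailGrp x (7 - d)) ≤ 2 ^ d := by
  intro d
  induction d with
  | zero =>
    intro _
    have : ({j | 7 - 0 ≤ j ∧ j < 7} : Set ℕ) = ∅ := by ext j; simp
    rw [tailGrp, this, Set.image_empty, Subgroup.closure_empty]
    simp
  | succ d ih =>
    intro hd
    set i := 7 - (d + 1) with hi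
    have e7 : 7 - d = i + 1 := by omega
    have ih' := ih (by omega)
    rw [e7] at ih'
    have hpair : ∀ j, i ≤ j → j < 7 → (i = j → x i * x i ∈ tailGrp x (i + 1)) ∧
        (i < j → x i * x j * (x i)⁻¹ ∈ tailGrp x (i + 1)) := by
      intro j hij hj
      simp only [pcShape, List.all_eq_true, Bool.or_eq_true, decide_eq_true_eq, List.any_eq_true,
        Bool.and_eq_true, beq_iff_eq, List.mem_range] at hs
      rcases hs i (by omega) j hj with h | ⟨k, hk, h1, h2⟩
      · omega
      have he := hr k hk
      rw [h1] at he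
      simp only [prodX, List.map_cons, List.map_nil, List.prod_cons, List.prod_nil, mul_one] at he
      constructor
      · rintro rfl
        rw [if_pos rfl] at h2
        simp only [List.all_eq_true, decide_eq_true_eq] at h2
        rw [he]
        exact prodX_mem _ fun q hq => ⟨(h2 q hq).1, (h2 q hq).2⟩
      · intro hlt
        rw [if_neg hlt.ne] at h2
        simp only [Bool.and_eq_true, beq_iff_eq, List.all_eq_true, decide_eq_true_eq] at h2
        obtain ⟨hl, hall⟩ := h2
        rw [← List.dropLast_append_getLast? i hl, List.map_append, List.prod_append, List.map_cons,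
          List.map_nil, List.prod_cons, List.prod_nil, mul_one] at he
        rw [he, mul_inv_cancel_right]
        exact prodX_mem _ fun q hq => ⟨(hall q hq).1, (hall q hq).2⟩
    have hc : ∀ h ∈ tailGrp x (i + 1), x i * h * (x i)⁻¹ ∈ tailGrp x (i + 1) := by
      intro h hh
      induction hh using Subgroup.closure_induction with
      | mem y hy =>
        obtain ⟨j, hj, rfl⟩ := hy
        exact (hpair j (Nat.le_of_succ_le hj.1) hj.2).2 hj.1
      | one => simp
      | mul a b _ _ ha hb =>
        rw [show x i * (a * b) * (x i)⁻¹ = x i * a * (x i)⁻¹ * (x i * b * (x i)⁻¹) by group]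
        exact Subgroup.mul_mem _ ha hb
      | inv a _ ha =>
        rw [show x i * a⁻¹ * (x i)⁻¹ = (x i * a * (x i)⁻¹)⁻¹ by group]
        exact Subgroup.inv_mem _ ha
    have hle : tailGrp x i ≤ Subgroup.closure (insert (x i) (tailGrp x (i + 1) : Set E)) := by
      refine (Subgroup.closure_le _).2 ?_
      rintro _ ⟨j, ⟨h1, h2⟩, rfl⟩
      rcases Nat.eq_or_lt_of_le h1 with rfl | h
      · exact Subgroup.subset_closure (Set.mem_insert _ _)
      · exact Subgroup.subset_closure (Set.mem_insert_of_mem _ (Subgroup.subset_closure ⟨j, ⟨h, h2⟩, rfl⟩))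
    refine (Subgroup.card_le_of_le hle).trans ?_
    refine (closure_insert_card _ _ hc ((hpair i le_rfl (by omega)).1 rfl)).trans ?_
    rw [pow_succ']
    omega

/-- normal form words -/
def nfWord (m : ℕ) : List ℕ := (List.range 7).filter fun i => m.testBit i

theorem exists_complement (S : Setup E) (hrange : S.π.range = Spor.M23) {x : ℕ → E} {tab : ℕ → ℕ}
    (hx : ∀ g, code (S.π (x g)) = tab g) {rels : ℕ → List ℕ × List ℕ} (hs : pcShape rels = true)
    (hr : ∀ k < 28, prodX x (rels k).1 = prodX x (rels k).2)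
    (hnf : ((List.range 128).map fun m => wordCode tab oneC (nfWord m)).Nodup) :
    ∃ H : Subgroup E, Subgroup.IsComplement' S.π.ker H := by
  classical
  set K := S.π.ker
  set A := tailGrp x 0
  have hA : Nat.card A ≤ 128 := card_tailGrp hs hr 7 le_rfl
  have hKA : ∀ v, v ∈ K ↔ ∃ a, S.ν a = v := fun v =>
    ⟨S.ker_le v, fun ⟨a, ha⟩ => MonoidHom.mem_ker.2 (ha ▸ S.π_ν a)⟩
  have hKcard : Nat.card K = 2 ^ 11 := by
    rw [show (2 : ℕ) ^ 11 = Nat.card Vec by simp]
    exact (Nat.card_congr (Equiv.ofBijective (fun a => (⟨S.ν a, (hKA _).2 ⟨a, rfl⟩⟩ : K))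
      ⟨fun a b h => S.ν_inj (congrArg Subtype.val h), fun v => by
        obtain ⟨a, ha⟩ := (hKA _).1 v.2; exact ⟨a, Subtype.ext ha⟩⟩)).symm
  have hcomm : IsMulCommutative K := ⟨⟨fun u v => Subtype.ext (by
    obtain ⟨a, ha⟩ := (hKA _).1 u.2
    obtain ⟨b, hb⟩ := (hKA _).1 v.2
    show (u : E) * v = v * u
    rw [← ha, ← hb, ← S.ν_add, ← S.ν_add, add_comm])⟩⟩
  -- the restriction of `π` to `A` has at least 128 values
  let f : A →* Equiv.Perm GolayPt := S.π.comp A.subtype
  have hpts : ∀ m : Fin 128, ∃ a : A, code (f a) = wordCode tab oneC (nfWord m) := fun m => by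
    refine ⟨⟨prodX x (nfWord m), prodX_mem _ fun q hq => ?_⟩, ?_⟩
    · simp only [nfWord, List.mem_filter, List.mem_range] at hq
      exact ⟨Nat.zero_le _, hq.1⟩
    · have h := wordCode_eq S hx (nfWord m) 1
      rw [map_one, code_one, one_mul] at h
      exact h.symm
  choose a ha using hpts
  have hinj : Function.Injective fun m : Fin 128 => f (a m) := by
    intro m m' h
    have e : wordCode tab oneC (nfWord m) = wordCode tab oneC (nfWord m') := by
      rw [← ha, ← ha]; exact congrArg code h
    apply Fin.ext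
    have := (List.Nodup.getElem_inj_iff (i := m.val) (j := m'.val) (hi := by simp) (hj := by simp) hnf).1
      (by simpa using e)
    exact this
  have hrangeA : 128 ≤ Nat.card f.range := by
    rw [show (128 : ℕ) = Nat.card (Fin 128) by simp]
    exact Nat.card_le_card_of_injective (fun m => (⟨f (a m), ⟨a m, rfl⟩⟩ : f.range))
      fun m m' h => hinj (congrArg Subtype.val h)
  have hkerA : f.ker = ⊥ := by
    apply Subgroup.eq_bot_of_card_eq
    have h := f.ker.card_eq_card_quotient_mul_card_subgroup
    rw [Nat.card_congr (QuotientGroup.quotientKerEquivRange f).toEquiv] at h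
    have := Nat.card_pos (α := f.ker)
    nlinarith
  have hAcard : Nat.card A = 128 := by
    have h := f.ker.card_eq_card_quotient_mul_card_subgroup
    rw [Nat.card_congr (QuotientGroup.quotientKerEquivRange f).toEquiv, hkerA, Subgroup.card_bot, mul_one] at h
    omega
  have hAK : A ⊓ K = ⊥ := by
    rw [eq_bot_iff]
    rintro e ⟨heA, heK⟩
    have : (⟨e, heA⟩ : A) ∈ f.ker := MonoidHom.mem_ker.2 (MonoidHom.mem_ker.1 heK)
    rw [hkerA, Subgroup.mem_bot] at this
    exact congrArg Subtype.val this
  have hU : Nat.card (K ⊔ A : Subgroup E) = 2 ^ 18 := by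
    rw [Coprime.card_sup_eq_mul (N := K) (A := A) (Subgroup.normalizer_eq_top K ▸ le_top) (inf_comm K A ▸ hAK),
      hKcard, hAcard]
    norm_num
  have hE : Nat.card E = 10200960 * 2 ^ 11 := by
    rw [K.card_eq_card_quotient_mul_card_subgroup, hKcard,
      Nat.card_congr (QuotientGroup.quotientKerEquivRange S.π).toEquiv, hrange, Compute.card_m23]
  have hidx : (K ⊔ A).index = 79695 := by
    have := (K ⊔ A).card_mul_index
    rw [hU, hE] at this
    omega
  exact Core.gaschutz_exists (K := K) (U := K ⊔ A) le_sup_left (by rw [hKcard, hidx]; norm_num) le_sup_right hAK rfl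

end Cfsg.Agent.CohCert
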