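import Cfsg.Agent.CohCert.Basic

/-!
Correcting lifts by linear functionals of the values of the relations.
-/

set_option autoImplicit false

namespace Cfsg.Agent.CohCert

open Cfsg Cfsg.Agent.Leech

/-- exclusive or over an initial segment -/
def xorR (n : ℕ) (f : ℕ → ℕ) : ℕ := Nat.rec 0 (fun i a => a ^^^ f i) n

/-- exclusive or of a list -/
def xorL : List ℕ → ℕ
  | [] => 0
  | a :: l => a ^^^ xorL l

theorem z2_self' : ∀ a : ZMod 2, a + a = 0 := by decide

/-- the certificate -/
structure Cert where
  /-- identities -/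
  ids : List Ident
  /-- equations: identity and coordinate -/
  fid : List (ℕ × ℕ)
  /-- their coefficient masks -/
  funT : List ℕ
  /-- combinations -/
  cm : List ℕ
  /-- the linear corrections -/
  L : List ℕ
  /-- the exceptional class -/
  c0 : ℕ

/-- the mask of a coordinate of a translated relation -/
def coefRow (coef : ℕ → ℕ → ℕ → Bool) (c o k : ℕ) : ℕ :=
  xorR 11 fun j => if coef c o j then 2 ^ (11 * k + j) else 0

/-- the mask of an equation -/
def funMask (coef : ℕ → ℕ → ℕ → Bool) (tab : ℕ → ℕ) (cells : List (List ℕ × ℕ)) (o : ℕ) : ℕ :=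
  xorL (cells.map fun q => coefRow coef (wordCode tab oneC q.1) o q.2)

/-- the mask of the change at an edge -/
def dEdge (coef : ℕ → ℕ → ℕ → Bool) (L : List ℕ) (o : ℕ) (p : ℕ × ℕ) : ℕ :=
  if p.2 < 7 then xorR 11 fun j => if coef p.1 o j then L.getD (11 * p.2 + j) 0 else 0 else 0

/-- the mask of the change of a relation -/
def dMask (coef : ℕ → ℕ → ℕ → Bool) (tab : ℕ → ℕ) (L : List ℕ) (rel : List ℕ × List ℕ) (o : ℕ) : ℕ :=
  xorL ((edges tab oneC rel.1 ++ edges tab oneC rel.2).map (dEdge coef L o))

/-- all equations are valid -/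
def Cert.eqsOk (C : Cert) (coef : ℕ → ℕ → ℕ → Bool) (tab : ℕ → ℕ) (rels : ℕ → List ℕ × List ℕ) : Bool :=
  ((C.fid.zip C.funT).all fun q => decide (q.1.2 < 11) &&
    Nat.beq q.2 (funMask coef tab (C.ids.getD q.1.1 ⟨[], 0, []⟩).cells q.1.2)) &&
    C.ids.all fun I => I.ok tab rels && I.cells.all fun q => decide (q.2 < 52)

/-- a combination of the equations -/
def comboVal (funT : List ℕ) (m : ℕ) : ℕ :=
  xorR funT.length fun e => if m.testBit e then funT.getD e 0 else 0

/-- the corrected value of each coordinate -/
def Cert.resOk (C : Cert) (coef : ℕ → ℕ → ℕ → Bool) (tab : ℕ → ℕ) (rels : ℕ → List ℕ × List ℕ) : Bool :=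
  Nat.beq C.fid.length C.funT.length && (List.range 308).all fun i => Nat.beq (comboVal C.funT (C.cm.getD i 0))
    (2 ^ i ^^^ dMask coef tab C.L (rels (i / 11)) (i % 11) ^^^ (if C.c0.testBit i then C.L.getD 77 0 else 0))

variable {E : Type*} [Group E] (S : Setup E)

section
variable (r : ℕ → Vec)

/-- evaluation of a mask -/
noncomputable def evalM (m : ℕ) : ZMod 2 :=
  bitSum 572 (fun p => r (p / 11) ⟨p % 11, Nat.mod_lt _ (by norm_num)⟩) m

theorem evalM_xor (m n : ℕ) : evalM r (m ^^^ n) = evalM r m + evalM r n := bitSum_xor z2_self' _ _ _ _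

theorem evalM_zero : evalM r 0 = 0 := bitSum_zero _ _

theorem evalM_xorR (f : ℕ → ℕ) : ∀ n, evalM r (xorR n f) = ∑ i ∈ Finset.range n, evalM r (f i)
  | 0 => by simp [xorR, evalM_zero]
  | n + 1 => by
    rw [Finset.sum_range_succ, ← evalM_xorR f n, ← evalM_xor]
    rfl

theorem evalM_xorL : ∀ l : List ℕ, evalM r (xorL l) = (l.map (evalM r)).sum
  | [] => evalM_zero r
  | a :: l => by rw [xorL, evalM_xor, evalM_xorL l, List.map_cons, List.sum_cons]

theorem evalM_coefRow (c : ℕ) (o : Fin 11) {k : ℕ} (hk : k < 52) :
    evalM r (coefRow S.coef c o.val k) = S.act c (r k) o := by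
  rw [coefRow, evalM_xorR, ← Fin.sum_univ_eq_sum_range (fun j => evalM r (if S.coef c o.val j then 2 ^ (11 * k + j) else 0))]
  refine Finset.sum_congr rfl fun j _ => ?_
  have := j.isLt
  cases S.coef c o.val j.val with
  | false => simp [evalM_zero, bz]
  | true =>
    rw [if_pos rfl, evalM, bitSum_two_pow (by omega)]
    simp only [bz, if_true, one_mul]
    congr 1
    · omega
    · exact Fin.ext (show (11 * k + j.val) % 11 = j.val by omega)

end

theorem sum_map_apply {α : Type*} (l : List α) (f : α → Vec) (o : Fin 11) :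
    (l.map f).sum o = (l.map fun a => f a o).sum := by
  induction l with
  | nil => rfl
  | cons a l ih => simp only [List.map_cons, List.sum_cons, Pi.add_apply, ih]

section
variable {x : ℕ → E} {tab : ℕ → ℕ} (hx : ∀ g, code (S.π (x g)) = tab g)
include hx

theorem prodX_shift (n : ℕ → Vec) : ∀ (w : List ℕ) (e : E),
    e * prodX (fun g => S.ν (n g) * x g) w =
      S.ν ((edges tab (code (S.π e)) w).map fun p => S.act p.1 (n p.2)).sum * (e * prodX x w)
  | [], e => by simp [prodX, edges, S.ν_zero]
  | g :: w, e => by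
    have ih := prodX_shift n w (e * x g)
    rw [map_mul, code_mul, hx] at ih
    rw [edges, List.map_cons, List.sum_cons, S.ν_add]
    simp only [prodX, List.map_cons, List.prod_cons] at ih ⊢
    calc e * (S.ν (n g) * x g * (List.map (fun g => S.ν (n g) * x g) w).prod)
        = e * S.ν (n g) * (x g * (List.map (fun g => S.ν (n g) * x g) w).prod) := by group
      _ = S.ν (S.act (code (S.π e)) (n g)) * (e * x g * (List.map (fun g => S.ν (n g) * x g) w).prod) := by
          rw [S.conj']; group
      _ = _ := by rw [ih]; group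

attribute [local irreducible] evalM bitSum coefRow oneC in
theorem correct (rels : ℕ → List ℕ × List ℕ)
    (hrel : ∀ k, wordCode tab oneC (rels k).1 = wordCode tab oneC (rels k).2)
    (C : Cert) (heq : C.eqsOk S.coef tab rels = true) (hres : C.resOk S.coef tab rels = true) :
    ∃ (x' : ℕ → E) (β : ZMod 2), (∀ g, code (S.π (x' g)) = tab g) ∧
      ∀ k < 28, prodX x' (rels k).1 =
        S.ν (fun o => bz (C.c0.testBit (11 * k + o.val)) * β) * prodX x' (rels k).2 := by
  set r := S.relVal x rels
  let n : ℕ → Vec := fun g => if g < 7 then fun j => evalM r (C.L.getD (11 * g + j.val) 0) else 0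
  let x' : ℕ → E := fun g => S.ν (n g) * x g
  have hx' : ∀ g, code (S.π (x' g)) = tab g := fun g => by
    simp only [x', map_mul, S.π_ν, one_mul, hx]
  refine ⟨x', evalM r (C.L.getD 77 0), hx', fun k hk => ?_⟩
  simp only [Cert.resOk, Bool.and_eq_true, Nat.beq_eq] at hres
  obtain ⟨hlen, hres⟩ := hres
  simp only [Cert.eqsOk, Bool.and_eq_true, List.all_eq_true, decide_eq_true_eq, Nat.beq_eq] at heq
  have hfun : ∀ e, evalM r (C.funT.getD e 0) = 0 ∨ C.fid.length ≤ e := by
    intro e
    rcases lt_or_ge e C.fid.length with he | he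
    swap
    · exact Or.inr he
    left
    rcases lt_or_ge e C.funT.length with he2 | he2
    swap
    · rw [List.getD_eq_default _ _ he2, evalM_zero]
    have hmem : (C.fid[e], C.funT[e]) ∈ C.fid.zip C.funT := by
      refine List.mem_iff_getElem.2 ⟨e, by simp [he, he2], by simp⟩
    obtain ⟨ho, hm⟩ := heq.1 _ hmem
    dsimp only at ho hm
    rw [List.getD_eq_getElem _ _ he2, hm, funMask, evalM_xorL, List.map_map]
    rcases lt_or_ge (C.fid[e]).1 C.ids.length with hi | hi
    swap
    · rw [List.getD_eq_default _ _ hi]; simp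
    rw [List.getD_eq_getElem _ _ hi]
    obtain ⟨hok, hk52⟩ := heq.2 _ (List.getElem_mem hi)
    have h0 := congrFun (ident_sum S hx hrel hok) ⟨_, ho⟩
    rw [sum_map_apply] at h0
    refine Eq.trans (congrArg List.sum (List.map_congr_left fun q hq => ?_)) h0
    simp only [Function.comp_apply]
    exact evalM_coefRow S r _ ⟨_, ho⟩ (hk52 q hq)
  have hval : S.relVal x' rels k = fun o => bz (C.c0.testBit (11 * k + o.val)) * evalM r (C.L.getD 77 0) := by
    have h1 := S.relVal_spec hx' (hrel k)
    have e1 := prodX_shift S hx n (rels k).1 1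
    have e2 := prodX_shift S hx n (rels k).2 1
    rw [map_one, code_one, one_mul, one_mul] at e1 e2
    rw [show (fun g => S.ν (n g) * x g) = x' from rfl] at e1 e2
    rw [e1, e2, S.relVal_spec hx (hrel k), ← mul_assoc, ← mul_assoc, ← S.ν_add, ← S.ν_add] at h1
    have h2 := S.ν_inj (mul_right_cancel h1)
    funext o
    have ho := congrFun h2 o
    simp only [Pi.add_apply] at ho
    rw [sum_map_apply, sum_map_apply] at ho
    have hd : evalM r (dMask S.coef tab C.L (rels k) o.val) =
        ((edges tab oneC (rels k).1).map fun p => S.act p.1 (n p.2) o).sum +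
        ((edges tab oneC (rels k).2).map fun p => S.act p.1 (n p.2) o).sum := by
      rw [dMask, evalM_xorL, List.map_map, List.map_append, List.sum_append]
      refine congrArg₂ (· + ·) ?_ ?_ <;> refine congrArg List.sum (List.map_congr_left fun p _ => ?_) <;>
      · show evalM r (dEdge S.coef C.L o.val p) = S.act p.1 (n p.2) o
        rw [dEdge]
        by_cases hp : p.2 < 7
        · rw [if_pos hp, evalM_xorR, ← Fin.sum_univ_eq_sum_range
            (fun j => evalM r (if S.coef p.1 o.val j then C.L.getD (11 * p.2 + j) 0 else 0))]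
          refine Finset.sum_congr rfl fun j _ => ?_
          simp only [n, if_pos hp]
          cases S.coef p.1 o.val j.val <;> simp [bz, evalM_zero]
        · simp [n, if_neg hp, evalM_zero, Setup.act]
    have hk' := List.all_eq_true.1 hres (11 * k + o.val) (List.mem_range.2 (by have := o.isLt; omega))
    simp only [Nat.beq_eq] at hk'
    rw [show (11 * k + o.val) / 11 = k by have := o.isLt; omega,
      show (11 * k + o.val) % 11 = o.val by have := o.isLt; omega] at hk'
    have hz : evalM r (comboVal C.funT (C.cm.getD (11 * k + o.val) 0)) = 0 := by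
      rw [comboVal, evalM_xorR]
      refine Finset.sum_eq_zero fun e he => ?_
      split_ifs
      · rcases hfun e with h | h
        · exact h
        · exact absurd h (not_le.2 (lt_of_lt_of_le (Finset.mem_range.1 he) (le_of_eq hlen.symm)))
      · exact evalM_zero r
    rw [hk', evalM_xor, evalM_xor, hd] at hz
    have hu : evalM r (2 ^ (11 * k + o.val)) = r k o := by
      have := o.isLt
      unfold evalM
      rw [bitSum_two_pow (by omega)]
      exact congrArg₂ r (show (11 * k + o.val) / 11 = k by omega)
        (Fin.ext (show (11 * k + o.val) % 11 = o.val by omega))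
    have hc : evalM r (if C.c0.testBit (11 * k + o.val) then C.L.getD 77 0 else 0) =
        bz (C.c0.testBit (11 * k + o.val)) * evalM r (C.L.getD 77 0) := by
      cases C.c0.testBit (11 * k + o.val) <;> simp [bz, evalM_zero]
    rw [hu, hc] at hz
    change _ + r k o = S.relVal x' rels k o + _ at ho
    revert ho hz
    show _ → _ → S.relVal x' rels k o = _
    generalize r k o = a, S.relVal x' rels k o = b, (((edges tab oneC (rels k).1).map fun p => S.act p.1 (n p.2) o).sum) = c,
      (((edges tab oneC (rels k).2).map fun p => S.act p.1 (n p.2) o).sum) = d,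
      bz (C.c0.testBit (11 * k + o.val)) * evalM r (C.L.getD 77 0) = e
    revert a b c d e
    decide
  rw [← hval]
  exact S.relVal_spec hx' (hrel k)

end

end Cfsg.Agent.CohCert
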