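import Cfsg.Agent.CohCert.Checks
import Cfsg.Agent.Cocode.Ext

/-!
The code and cocode modules of `M₂₃` as extension data.
-/

set_option autoImplicit false

namespace Cfsg.Agent.CohCert

open Cfsg Cfsg.Agent.Leech

/-- the map of an extension to the permutations -/
noncomputable def permHom {E : Type*} [Group E] (N : Subgroup E) [N.Normal] (φ : E ⧸ N ≃* ↥Spor.M23) :
    E →* Equiv.Perm GolayPt :=
  (Spor.M23.subtype.comp φ.toMonoidHom).comp (QuotientGroup.mk' N)

theorem permHom_apply {E : Type*} [Group E] (N : Subgroup E) [N.Normal] (φ : E ⧸ N ≃* ↥Spor.M23) (e : E) :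
    permHom N φ e = (φ (QuotientGroup.mk e) : Equiv.Perm GolayPt) := rfl

theorem ker_permHom {E : Type*} [Group E] (N : Subgroup E) [N.Normal] (φ : E ⧸ N ≃* ↥Spor.M23) :
    (permHom N φ).ker = N := by
  ext e
  rw [MonoidHom.mem_ker, permHom_apply, ← QuotientGroup.eq_one_iff (N := N) e]
  exact ⟨fun h => φ.map_eq_one_iff.1 (Subtype.ext h), fun h => by rw [h, map_one]; rfl⟩

theorem range_permHom {E : Type*} [Group E] (N : Subgroup E) [N.Normal] (φ : E ⧸ N ≃* ↥Spor.M23) :
    (permHom N φ).range = Spor.M23 := by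
  ext σ
  constructor
  · rintro ⟨e, rfl⟩; exact (φ (QuotientGroup.mk e)).2
  · intro h
    obtain ⟨e, he⟩ := QuotientGroup.mk_surjective (φ.symm ⟨σ, h⟩)
    exact ⟨e, by rw [permHom_apply, he, MulEquiv.apply_symm_apply]⟩

/-- a code word from coordinates -/
def codeWord (v : Vec) : GolayPt → ZMod 2 := fun p => ∑ j : Fin 11, v j * row j.succ p

theorem codeWord_mem (v : Vec) : codeWord v ∈ golayCode ∧ codeWord v none = 0 := by
  constructor
  · have : codeWord v = ∑ j : Fin 11, v j • row j.succ := by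
      funext p; simp only [codeWord, Finset.sum_apply, Pi.smul_apply, smul_eq_mul]
    rw [this]
    exact sum_mem fun j _ => Submodule.smul_mem _ _ (row_mem _)
  · refine Finset.sum_eq_zero fun j _ => ?_
    rw [show (none : GolayPt) = piv 0 from rfl, row_piv, if_neg (Fin.succ_ne_zero j), mul_zero]

theorem codeWord_piv (v : Vec) (j : Fin 11) : codeWord v (piv j.succ) = v j := by
  rw [codeWord, Finset.sum_eq_single j]
  · simp [row_piv]
  · intro i _ hi; simp [row_piv, hi]
  · simp

theorem eq_codeWord {w : GolayPt → ZMod 2} (hw : w ∈ golayCode) (h0 : w none = 0) :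
    w = codeWord fun j => w (piv j.succ) := by
  funext p
  conv_lhs => rw [← (mem_iff w).1 hw]
  show ∑ i, w (piv i) * row i p = _
  rw [Fin.sum_univ_succ, show piv 0 = none from rfl, h0, zero_mul, zero_add]
  rfl

section CodeModule
variable {E : Type*} [Group E] (N : Subgroup E) [hN : N.Normal] (φ : E ⧸ N ≃* ↥Spor.M23)
  (ψ : Additive ↥N →+ (GolayPt → ZMod 2)) (hinj : Function.Injective ψ)
  (hrange : ∀ w : GolayPt → ZMod 2, w ∈ Set.range ψ ↔ (w ∈ golayCode ∧ w none = 0))
  (hψ : ∀ (g : E) (n : ↥N),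
    ψ (Additive.ofMul ⟨g * n * g⁻¹, hN.conj_mem n n.2 g⟩)
      = ψ (Additive.ofMul n) ∘ ⇑(((φ (QuotientGroup.mk g) : ↥Spor.M23) : Equiv.Perm GolayPt)⁻¹))

include hinj hrange hψ in
theorem exists_codeSetup : ∃ S : Setup E, S.π = permHom N φ ∧ S.coef = codeCoef := by
  let n : Vec → Additive ↥N := fun v => ((hrange (codeWord v)).2 (codeWord_mem v)).choose
  have hn : ∀ v, ψ (n v) = codeWord v := fun v => ((hrange (codeWord v)).2 (codeWord_mem v)).choose_spec
  have hn' : ∀ (u : Additive ↥N), n (fun j => ψ u (piv j.succ)) = u := fun u => hinj (by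
    rw [hn]
    exact (eq_codeWord ((hrange _).1 ⟨u, rfl⟩).1 ((hrange _).1 ⟨u, rfl⟩).2).symm)
  refine ⟨⟨permHom N φ, fun v => ((n v).toMul : ↥N), codeCoef, fun a b => ?_, fun a b h => ?_, fun a => ?_,
    fun e he => ?_, fun e v => ?_⟩, rfl, rfl⟩
  · have : n (a + b) = n a + n b := hinj (by
      rw [map_add, hn, hn, hn]
      funext p
      simp [codeWord, add_mul, Finset.sum_add_distrib])
    simp only [this, toMul_add, Subgroup.coe_mul]
  · have : n a = n b := Additive.toMul.injective (Subtype.ext h)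
    funext j
    rw [← codeWord_piv a j, ← codeWord_piv b j, ← hn, ← hn, this]
  · show permHom N φ _ = 1
    rw [← MonoidHom.mem_ker, ker_permHom]
    exact SetLike.coe_mem _
  · rw [← MonoidHom.mem_ker, ker_permHom] at he
    exact ⟨fun j => ψ (Additive.ofMul ⟨e, he⟩) (piv j.succ),
      congrArg (fun u : Additive ↥N => ((u.toMul : ↥N) : E)) (hn' (Additive.ofMul ⟨e, he⟩))⟩
  · have h := hψ e (n v).toMul
    rw [ofMul_toMul, hn] at h
    refine congrArg (fun u : Additive ↥N => ((u.toMul : ↥N) : E)) ((hn' _).symm.trans (congrArg n ?_) :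
      Additive.ofMul (⟨e * ((n v).toMul : ↥N) * e⁻¹, hN.conj_mem _ (n v).toMul.2 e⟩ : ↥N) = _)
    funext o
    rw [h, permHom_apply]
    show codeWord v ((((φ (QuotientGroup.mk e) : ↥Spor.M23) : Equiv.Perm GolayPt)⁻¹) (piv o.succ)) = _
    refine Finset.sum_congr rfl fun j _ => ?_
    rw [codeCoef_spec, mul_comm]

end CodeModule

/-- coordinates of a cocode element -/
def cocodeWord (v : Vec) : GolayPt → ZMod 2 := fun p => ∑ j : Fin 11, v j * if p = piv j.succ then 1 else 0

theorem sum_cocodeWord (v : Vec) (f : GolayPt → ZMod 2) :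
    ∑ p, cocodeWord v p * f p = ∑ j : Fin 11, v j * f (piv j.succ) := by
  simp only [cocodeWord, Finset.sum_mul, mul_assoc, ite_mul, one_mul, zero_mul]
  rw [Finset.sum_comm]
  refine Finset.sum_congr rfl fun j _ => ?_
  rw [← Finset.mul_sum]
  simp

theorem sum_add_single (v : GolayPt → ZMod 2) (t : ZMod 2) (f : GolayPt → ZMod 2) :
    ∑ p, (v + t • (Pi.single none (1 : ZMod 2) : GolayPt → ZMod 2)) p * f p = (∑ p, v p * f p) + t * f none := by
  simp only [Pi.add_apply, Pi.smul_apply, smul_eq_mul, add_mul, Finset.sum_add_distrib]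
  refine congrArg (_ + ·) ?_
  rw [Finset.sum_eq_single none]
  · rw [Pi.single_eq_same, mul_one]
  · intro p _ hp; rw [Pi.single_eq_of_ne hp, mul_zero, zero_mul]
  · simp

section CocodeModule
variable {E : Type*} [Group E] (N : Subgroup E) [hN : N.Normal] (φ : E ⧸ N ≃* ↥Spor.M23)
  (θ : (GolayPt → ZMod 2) →+ Additive ↥N) (hsurj : Function.Surjective θ)
  (hker : ∀ w : GolayPt → ZMod 2, θ w = 0 ↔ (w ∈ golayCode ∨ w + Pi.single none 1 ∈ golayCode))
  (hθ : ∀ (g : E) (w : GolayPt → ZMod 2),
    ((θ (w ∘ ⇑(((φ (QuotientGroup.mk g) : ↥Spor.M23) : Equiv.Perm GolayPt)⁻¹))).toMul : E)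
      = g * ((θ w).toMul : E) * g⁻¹)

include hker in
theorem theta_eq_of_coords (w : GolayPt → ZMod 2) :
    θ w = θ (cocodeWord fun j => ∑ p, w p * row j.succ p) := by
  set u : GolayPt → ZMod 2 := cocodeWord fun j => ∑ p, w p * row j.succ p
  have hu : ∀ i : Fin 11, ∑ p, (w + u) p * row i.succ p = 0 := fun i => by
    simp only [Pi.add_apply, add_mul, Finset.sum_add_distrib]
    rw [sum_cocodeWord]
    simp only [row_piv, Fin.succ_inj, mul_ite, mul_one, mul_zero, Finset.sum_ite_eq, Finset.mem_univ, if_true]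
    exact z2_self' _
  have h0 : θ (w + u) = 0 := by
    rw [hker]
    set t := ∑ p, (w + u) p * row 0 p with ht
    have hmem : w + u + t • (Pi.single none (1 : ZMod 2) : GolayPt → ZMod 2) ∈ golayCode := by
      rw [Cocode.mem_code_iff_pair]
      rintro ⟨a, ha⟩
      refine (code_induction (P := fun v => v ∈ golayCode ∧ ∑ p, (w + u + t • (Pi.single none (1 : ZMod 2) : GolayPt → ZMod 2)) p * v p = 0)
        (fun i => ⟨row_mem i, ?_⟩) ⟨zero_mem _, by simp⟩
        (fun v v' hv hv' pv pv' => ⟨add_mem hv hv', by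
          simp only [Pi.add_apply, mul_add, Finset.sum_add_distrib] at pv pv' ⊢
          rw [pv.2, pv'.2, add_zero]⟩) ha).2
      have e := sum_add_single (w + u) t (row i)
      rw [e]
      rcases Fin.eq_zero_or_eq_succ i with rfl | ⟨j, rfl⟩
      · rw [show row 0 none = row 0 (piv 0) from rfl, row_piv, if_pos rfl, mul_one, ← ht]
        exact z2_self' t
      · rw [hu j, show row j.succ none = row j.succ (piv 0) from rfl, row_piv, if_neg (Fin.succ_ne_zero j)]
        simp
    rcases (show ∀ t : ZMod 2, t = 0 ∨ t = 1 by decide) t with h | h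
    · left; rw [h, zero_smul, add_zero] at hmem; exact hmem
    · right; rw [h, one_smul] at hmem; exact hmem
  have h2 : θ (u + u) = 0 := by rw [Cocode.word_self, map_zero]
  rw [map_add] at h0 h2
  exact add_right_cancel (h0.trans h2.symm)

include hsurj hker hθ in
theorem exists_cocodeSetup : ∃ S : Setup E, S.π = permHom N φ ∧ S.coef = cocodeCoef := by
  refine ⟨⟨permHom N φ, fun v => ((θ (cocodeWord v)).toMul : ↥N), cocodeCoef, fun a b => ?_, fun a b h => ?_,
    fun a => ?_, fun e he => ?_, fun e v => ?_⟩, rfl, rfl⟩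
  · have : cocodeWord (a + b) = cocodeWord a + cocodeWord b := by
      funext p
      simp only [cocodeWord, Pi.add_apply, add_mul, Finset.sum_add_distrib]
    simp only [this, map_add, toMul_add, Subgroup.coe_mul]
  · have h1 : θ (cocodeWord a) = θ (cocodeWord b) := Additive.toMul.injective (Subtype.ext h)
    have h2 : θ (cocodeWord a + cocodeWord b) = 0 := by
      rw [map_add, h1, ← map_add, Cocode.word_self, map_zero]
    funext j
    apply Cocode.z2_add_eq.2
    have hs : ∀ w, θ w = 0 → ∑ p, w p * row j.succ p = 0 := fun w hw => by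
      rcases (hker w).1 hw with hc | hc
      · exact dot_eq_zero hc (row_mem _)
      · have h3 := dot_eq_zero hc (row_mem j.succ)
        simp only [Pi.add_apply, add_mul, Finset.sum_add_distrib] at h3
        rw [Finset.sum_eq_single (f := fun p => (Pi.single none (1 : ZMod 2) : GolayPt → ZMod 2) p * row j.succ p) none,
          show row j.succ none = row j.succ (piv 0) from rfl, row_piv, if_neg (Fin.succ_ne_zero j), mul_zero,
          add_zero] at h3
        · exact h3
        · intro p _ hp; simp [hp]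
        · simp
    have h4 := hs _ h2
    simp only [Pi.add_apply, add_mul, Finset.sum_add_distrib, sum_cocodeWord, row_piv, Fin.succ_inj, mul_ite,
      mul_one, mul_zero, Finset.sum_ite_eq, Finset.mem_univ, if_true] at h4
    exact h4
  · show permHom N φ _ = 1
    rw [← MonoidHom.mem_ker, ker_permHom]
    exact SetLike.coe_mem _
  · rw [← MonoidHom.mem_ker, ker_permHom] at he
    obtain ⟨w, hw⟩ := hsurj (Additive.ofMul ⟨e, he⟩)
    refine ⟨fun j => ∑ p, w p * row j.succ p, ?_⟩
    show ((θ _).toMul : E) = e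
    rw [← theta_eq_of_coords N θ hker w, hw]
    rfl
  · show e * ((θ (cocodeWord v)).toMul : E) * e⁻¹ = _
    rw [← hθ, theta_eq_of_coords N θ hker]
    refine congrArg (fun u : Vec => ((θ (cocodeWord u)).toMul : E)) (funext fun o => ?_)
    rw [← Equiv.sum_comp (((φ (QuotientGroup.mk e) : ↥Spor.M23) : Equiv.Perm GolayPt))]
    simp only [Function.comp_apply, Equiv.Perm.inv_def, Equiv.symm_apply_apply]
    rw [sum_cocodeWord]
    refine Finset.sum_congr rfl fun j _ => ?_
    rw [cocodeCoef_spec, permHom_apply, mul_comm]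

end CocodeModule

/-- a Setup on an extension with no class on the Sylow subgroup has a complement -/
theorem complement_of_zero {E : Type*} [Group E] [Finite E] (S : Setup E) (hrange : S.π.range = Spor.M23)
    {x : ℕ → E} (hx : ∀ g, code (S.π (x g)) = tab g)
    (hr : ∀ k < 28, prodX x (rels k).1 = prodX x (rels k).2) : ∃ H, Subgroup.IsComplement' S.π.ker H :=
  exists_complement S hrange hx pcShape_ok hr nf_nodup

end Cfsg.Agent.CohCert
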